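import Cfsg.Agent.H780.D4.Stmts
import Cfsg.Agent.H765.D3.Auts

/-!
# S5261: `StGrpD` (orders, torus and field automorphisms, Weyl elements)
-/

set_option autoImplicit false
set_option linter.unusedSectionVars false

namespace Cfsg.Agent.H765.D4

open Cfsg Cfsg.Agent.H765.D3 Cfsg.Agent.H780.D4
open Cfsg.Agent.H765.D3.Sy (Q1 Q2 Z1 Z2 Z3 Z4 mem_Q1 mem_Q2 mul_x1 mul_x2 mul_x3 mul_x4 mul_x5 mul_x6)
open Cfsg.Agent.Hex.Defs (sh cr nm tr)

universe u

section

variable {F K : Type u} [Field F] [Field K] [Algebra F K] {φ : K ≃ₐ[F] K}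

theorem finF {p n : ℕ} (h : HypD φ p n) : Finite F :=
  Nat.finite_of_card_ne_zero (by rw [h.card]; exact pow_ne_zero _ h.pp.ne_zero)

variable [Cub φ]

theorem card_Sy {p n : ℕ} (h : HypD φ p n) : Nat.card (Sy φ) = (p ^ n) ^ 12 := by
  have := h.fin
  have := finF h
  rw [Sy.card_eq, h.card, h.cardK]
  ring

theorem isPGroup {p n : ℕ} (h : HypD φ p n) : IsPGroup p (⊤ : Subgroup (Sy φ)) :=
  IsPGroup.of_card (n := n * 12) (by rw [Subgroup.card_top, card_Sy h, ← pow_mul])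

/-- the field automorphism as an element of `Gal φ` -/
def galOf {p n : ℕ} (h : HypD φ p n) (τ : K ≃+* K) (ρ : F ≃+* F)
    (hr : ∀ x : F, τ (algebraMap F K x) = algebraMap F K (ρ x)) : Gal φ where
  τ := τ
  ρ := ρ
  res s := (hr s).symm
  comm t := by rw [h.phi, h.phi, map_pow]

/-- `stdAut` is a torus element -/
theorem isTor_stdAut (l : Kˣ) (m : Fˣ) (g : Gal φ) :
    IsTor (stdAut l m g : MulAut (Sy φ)) (l : K) (m : F) g.τ g.ρ where
  nes := l.ne_zero
  net := m.ne_zero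
  res x := (g.res x).symm
  x1 _ := rfl
  x6 _ := rfl
  x5 _ := rfl
  x3 _ := rfl
  x2 y := by rw [stdAut_x2]; ring
  x4 y := by rw [stdAut_x4]; ring

theorem exists_isTor {p n : ℕ} (h : HypD φ p n) (s : K) (t : F) (τ : K ≃+* K) (ρ : F ≃+* F) (hs : s ≠ 0)
    (ht : t ≠ 0) (hr : ∀ x : F, τ (algebraMap F K x) = algebraMap F K (ρ x)) :
    ∃ α : MulAut (Sy φ), IsTor α s t τ ρ :=
  ⟨stdAut (Units.mk0 s hs) (Units.mk0 t ht) (galOf h τ ρ hr), isTor_stdAut _ _ _⟩

/-- a torus element is a standard automorphism -/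
theorem eq_std {p n : ℕ} (h : HypD φ p n) {α : MulAut (Sy φ)} {s : K} {t : F} {τ : K ≃+* K} {ρ : F ≃+* F}
    (hα : IsTor α s t τ ρ) :
    α = stdAut (Units.mk0 s hα.nes) (Units.mk0 t hα.net) (galOf h τ ρ hα.res) := by
  apply MulEquiv.ext
  intro g
  ext
  · rw [hα.x1]; rfl
  · rw [hα.x6]; rfl
  · rw [hα.x5]; rfl
  · rw [hα.x3]; rfl
  · rw [hα.x2, stdAut_x2]
    change _ = t * nm φ s * ρ g.x2
    ring
  · rw [hα.x4, stdAut_x4]
    change _ = t ^ 2 * nm φ s * ρ g.x4
    ring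

theorem mem_TT {p n : ℕ} (h : HypD φ p n) {α : MulAut (Sy φ)} :
    α ∈ TT φ ↔ ∃ s t τ ρ, IsTor α s t τ ρ := by
  constructor
  · intro hα
    have key : ∀ α ∈ TT φ, ∃ (l : Kˣ) (m : Fˣ) (g : Gal φ), α = stdAut l m g := by
      intro α hα
      unfold TT at hα
      induction hα using Subgroup.closure_induction with
      | mem x hx =>
        obtain ⟨s, t, τ, ρ, hx⟩ := hx
        exact ⟨_, _, _, eq_std h hx⟩
      | one => exact ⟨1, 1, Gal.id φ, by
          apply MulEquiv.ext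
          intro x
          exact (stdFun_one (Gal.id φ) (fun _ => rfl) (fun _ => rfl) x).symm⟩
      | mul x y _ _ hx hy =>
        obtain ⟨l, m, g, rfl⟩ := hx
        obtain ⟨l', m', g', rfl⟩ := hy
        refine ⟨l * Units.map g.τ.toMonoidHom l', m * Units.map g.ρ.toMonoidHom m', g'.trans g, ?_⟩
        apply MulEquiv.ext
        intro x
        exact stdFun_comp _ _ _ _ _ _ _
      | inv x _ hx =>
        obtain ⟨l, m, g, rfl⟩ := hx
        refine ⟨Units.map g.τ.symm.toMonoidHom l⁻¹, Units.map g.ρ.symm.toMonoidHom m⁻¹, g.symm, ?_⟩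
        apply MulEquiv.ext
        intro x
        rfl
    obtain ⟨l, m, g, rfl⟩ := key α hα
    exact ⟨_, _, _, _, isTor_stdAut l m g⟩
  · intro hα
    exact Subgroup.subset_closure hα

/-! ### The Weyl elements -/

/-- the map `w1` -/
noncomputable def w1Fun (φ : K ≃ₐ[F] K) (e : Sy φ) : Sy φ where
  x1 := 0
  x6 := -e.x2
  x5 := e.x3
  x3 := -e.x5
  x2 := e.x6
  x4 := e.x4 + e.x2 * e.x6 - tr φ (e.x3 * e.x5)

theorem w1Fun_mul {x y : Sy φ} (hx : x.x1 = 0) (hy : y.x1 = 0) :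
    w1Fun φ (x * y) = w1Fun φ x * w1Fun φ y := by
  ext
  · simp only [w1Fun, Sy.mul_def]; ring
  · simp only [w1Fun, Sy.mul_def, hx, hy]
    apply (algebraMap F K).injective
    cub
  · simp only [w1Fun, Sy.mul_def, hx, hy]; cub
  · simp only [w1Fun, Sy.mul_def, hx, hy]; cub
  · simp only [w1Fun, Sy.mul_def, hx, hy]
    apply (algebraMap F K).injective
    cub
  · simp only [w1Fun, Sy.mul_def, hx, hy]
    apply (algebraMap F K).injective
    cub

/-- the map `w2` -/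
noncomputable def w2Fun (φ : K ≃ₐ[F] K) (e : Sy φ) : Sy φ where
  x1 := -e.x5
  x6 := 0
  x5 := e.x1
  x3 := e.x3 - cr φ e.x1 e.x5
  x2 := e.x4 - tr φ (e.x3 * e.x5) + tr φ (e.x1 * sh φ e.x5)
  x4 := -e.x2 + tr φ (e.x1 * e.x3) - tr φ (sh φ e.x1 * e.x5)

theorem w2Fun_mul {x y : Sy φ} (hx : x.x6 = 0) (hy : y.x6 = 0) :
    w2Fun φ (x * y) = w2Fun φ x * w2Fun φ y := by
  ext
  · simp only [w2Fun, Sy.mul_def, hx, hy]; cub
  · simp only [w2Fun, Sy.mul_def]; ring
  · simp only [w2Fun, Sy.mul_def, hx, hy]; cub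
  · simp only [w2Fun, Sy.mul_def, hx, hy]; cub
  · simp only [w2Fun, Sy.mul_def, hx, hy]
    apply (algebraMap F K).injective
    cub
  · simp only [w2Fun, Sy.mul_def, hx, hy]
    apply (algebraMap F K).injective
    cub

theorem exists_w1 [Finite K] [Finite F] : ∃ γ : MulAut (Q1 φ), IsW1 γ := by
  let f : Q1 φ →* Q1 φ := MonoidHom.mk' (fun e => ⟨w1Fun φ e, rfl⟩) (fun x y =>
    Subtype.ext (w1Fun_mul (mem_Q1.1 x.2) (mem_Q1.1 y.2)))
  have hf : ∀ e : Q1 φ, ((f e : Q1 φ) : Sy φ) = w1Fun φ e := fun _ => rfl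
  have hinj : Function.Injective f := by
    intro x y h
    have h0 : w1Fun φ (x : Sy φ) = w1Fun φ (y : Sy φ) := congrArg Subtype.val h
    have h6 : (x : Sy φ).x6 = (y : Sy φ).x6 := congrArg Sy.x2 h0
    have h2 : (x : Sy φ).x2 = (y : Sy φ).x2 := neg_injective (congrArg Sy.x6 h0)
    have h3 : (x : Sy φ).x3 = (y : Sy φ).x3 := congrArg Sy.x5 h0
    have h5 : (x : Sy φ).x5 = (y : Sy φ).x5 := neg_injective (congrArg Sy.x3 h0)
    have h4 := congrArg Sy.x4 h0
    simp only [w1Fun] at h4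
    rw [h6, h2, h3, h5] at h4
    apply Subtype.ext
    ext
    · exact (mem_Q1.1 x.2).trans (mem_Q1.1 y.2).symm
    · exact h6
    · exact h5
    · exact h3
    · exact h2
    · linear_combination h4
  exact ⟨MulEquiv.ofBijective f (Finite.injective_iff_bijective.1 hinj),
    ⟨fun _ => rfl, fun _ => rfl, fun _ => rfl, fun _ => rfl, fun _ => rfl⟩⟩

theorem exists_w2 [Finite K] [Finite F] : ∃ γ : MulAut (Q2 φ), IsW2 γ := by
  let f : Q2 φ →* Q2 φ := MonoidHom.mk' (fun e => ⟨w2Fun φ e, rfl⟩) (fun x y =>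
    Subtype.ext (w2Fun_mul (mem_Q2.1 x.2) (mem_Q2.1 y.2)))
  have hinj : Function.Injective f := by
    intro x y h
    have h0 : w2Fun φ (x : Sy φ) = w2Fun φ (y : Sy φ) := congrArg Subtype.val h
    have h1 : (x : Sy φ).x1 = (y : Sy φ).x1 := congrArg Sy.x5 h0
    have h5 : (x : Sy φ).x5 = (y : Sy φ).x5 := neg_injective (congrArg Sy.x1 h0)
    have h3 : (x : Sy φ).x3 = (y : Sy φ).x3 := by
      have := congrArg Sy.x3 h0
      simp only [w2Fun] at this
      rw [h1, h5] at this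
      linear_combination this
    have h4 : (x : Sy φ).x4 = (y : Sy φ).x4 := by
      have := congrArg Sy.x2 h0
      simp only [w2Fun] at this
      rw [h1, h5, h3] at this
      linear_combination this
    have h2 : (x : Sy φ).x2 = (y : Sy φ).x2 := by
      have := congrArg Sy.x4 h0
      simp only [w2Fun] at this
      rw [h1, h5, h3] at this
      linear_combination -this
    apply Subtype.ext
    ext
    · exact h1
    · exact (mem_Q2.1 x.2).trans (mem_Q2.1 y.2).symm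
    · exact h5
    · exact h3
    · exact h2
    · exact h4
  exact ⟨MulEquiv.ofBijective f (Finite.injective_iff_bijective.1 hinj),
    ⟨fun _ => rfl, fun _ => rfl, fun _ => rfl, fun _ => rfl, fun _ => rfl⟩⟩

end

/-- **(GRPD)** -/
theorem stGrpD : StGrpD.{u} := by
  intro F K _ _ _ φ _ p n h
  have := h.fin
  have := finF h
  exact ⟨card_Sy h, isPGroup h, fun s t τ ρ => exists_isTor h s t τ ρ, fun α hα => (mem_TT h).1 hα, exists_w1,
    exists_w2⟩

end Cfsg.Agent.H765.D4
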