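import Cfsg.Agent.H765.D4.Grp
import Cfsg.Agent.H765.D3.PosB
import Cfsg.Agent.Schreier.Tools2
import Cfsg.Agent.Solvable.SZ
import Cfsg.Agent.Lib.FrattiniPGroup

/-!
# S5261: `StPosD`: `p'`-groups of automorphisms of `Sy φ` are conjugate into `TT φ`
-/

set_option autoImplicit false
set_option linter.unusedSectionVars false

namespace Cfsg.Agent.H765.D4

open Cfsg Cfsg.Agent.H765.D3 Cfsg.Agent.H780.D4
open Cfsg.Agent.H765.D3.Sy (Q1 Q2 Z1 Z2 Z3 Z4 u1 u6 mem_Q1 mem_Q2 mul_x1 mul_x2 mul_x3 mul_x4 mul_x5 mul_x6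
  inv_x1 inv_x6 al1 al6 apply_x1 apply_x6 rhoF)
open Cfsg.Agent.Hex.Defs (sh cr nm tr)

universe u

section

open scoped Pointwise in
/-- Schur-Zassenhaus inside a subgroup -/
theorem sz_in {G : Type u} [Group G] [Finite G] (R D T : Subgroup G) [R.Normal] (hs : Group.IsSolvable R)
    (hcop : (Nat.card D).Coprime (Nat.card R)) (hRT : R ⊓ T = ⊥)
    (hall : ∀ x ∈ D, ∃ t ∈ T, x * t⁻¹ ∈ R) : ∃ g : G, ∀ d ∈ D, g * d * g⁻¹ ∈ T := by
  let L : Subgroup G := D ⊔ R
  have hDL : D ≤ L := le_sup_left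
  have hRL : R ≤ L := le_sup_right
  let N : Subgroup L := R.subgroupOf L
  have hN : N.Normal := inferInstance
  let H : Subgroup L := D.subgroupOf L
  let T' : Subgroup L := T.subgroupOf L
  have cN : Nat.card N = Nat.card R := Nat.card_congr (Subgroup.subgroupOfEquivOfLe hRL).toEquiv
  have cH : Nat.card H = Nat.card D := Nat.card_congr (Subgroup.subgroupOfEquivOfLe hDL).toEquiv
  have hDR : D ⊓ R = ⊥ := (Subgroup.disjoint_of_coprime_natCard hcop).eq_bot
  have hNH : N.IsComplement' H := by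
    refine Subgroup.isComplement'_of_disjoint_and_mul_eq_univ ?_ ?_
    · rw [disjoint_iff, eq_bot_iff]
      rintro ⟨x, hx⟩ ⟨h1, h2⟩
      have h3 : x ∈ D ⊓ R := ⟨h2, h1⟩
      rw [hDR] at h3
      exact Subgroup.mem_bot.2 (Subtype.ext h3)
    · rw [Set.eq_univ_iff_forall]
      rintro ⟨x, hx⟩
      have hx' : x ∈ ((R ⊔ D : Subgroup G) : Set G) := by
        rw [sup_comm]
        exact hx
      rw [Subgroup.normal_mul] at hx'
      obtain ⟨r, hr, d, hd, rfl⟩ := Set.mem_mul.1 hx'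
      exact Set.mem_mul.2 ⟨⟨r, hRL hr⟩, hr, ⟨d, hDL hd⟩, hd, rfl⟩
  have hNT : N.IsComplement' T' := by
    refine Subgroup.isComplement'_of_disjoint_and_mul_eq_univ ?_ ?_
    · rw [disjoint_iff, eq_bot_iff]
      rintro ⟨x, hx⟩ ⟨h1, h2⟩
      have h3 : x ∈ R ⊓ T := ⟨h1, h2⟩
      rw [hRT] at h3
      exact Subgroup.mem_bot.2 (Subtype.ext h3)
    · rw [Set.eq_univ_iff_forall]
      rintro ⟨x, hx⟩
      have hx' : x ∈ ((R ⊔ D : Subgroup G) : Set G) := by
        rw [sup_comm]
        exact hx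
      rw [Subgroup.normal_mul] at hx'
      obtain ⟨r, hr, d, hd, rfl⟩ := Set.mem_mul.1 hx'
      obtain ⟨t, ht, hxt⟩ := hall d hd
      have htL : t ∈ L := by
        have : (d * t⁻¹)⁻¹ * d ∈ L := L.mul_mem (L.inv_mem (hRL hxt)) (hDL hd)
        simpa using this
      refine Set.mem_mul.2 ⟨⟨r * (d * t⁻¹), hRL (mul_mem hr hxt)⟩, mul_mem hr hxt, ⟨t, htL⟩, ht, ?_⟩
      apply Subtype.ext
      change r * (d * t⁻¹) * t = r * d
      group
  have iH : Nat.card H = N.index := hNH.symm.index_eq_card.symm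
  have iT : Nat.card T' = N.index := hNT.symm.index_eq_card.symm
  have hcop' : (Nat.card N).Coprime N.index := by
    rw [cN, ← iH, cH]
    exact hcop.symm
  have hsN : Group.IsSolvable N :=
    Group.isSolvable_of_isSolvable_injective (f := (Subgroup.subgroupOfEquivOfLe hRL).toMonoidHom)
      (Subgroup.subgroupOfEquivOfLe hRL).injective
  obtain ⟨g, hg⟩ := Cfsg.Agent.Solvable.SZ.main (Nat.card L) L rfl N hcop' H T' (Or.inl hsN) iH iT
  refine ⟨g, fun d hd => ?_⟩
  have h1 : MulAut.conj g • (⟨d, hDL hd⟩ : L) ∈ MulAut.conj g • H :=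
    Subgroup.smul_mem_pointwise_smul _ _ _ hd
  rw [hg] at h1
  exact h1

variable {F K : Type u} [Field F] [Field K] [Algebra F K] {φ : K ≃ₐ[F] K} [Cub φ]

theorem finite_mulAut {G : Type*} [Group G] [Finite G] : Finite (MulAut G) :=
  Finite.of_injective (fun f : MulAut G => (f : G → G)) fun _ _ h => MulEquiv.ext fun t => congrFun h t

variable (φ) in
/-- automorphisms trivial on `S / Z4` -/
def NN : Subgroup (MulAut (Sy φ)) where
  carrier := {α | ∀ x, (α x).x1 = x.x1 ∧ (α x).x6 = x.x6}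
  one_mem' _ := ⟨rfl, rfl⟩
  mul_mem' {α β} ha hb x := by
    rw [MulAut.mul_apply]
    exact ⟨(ha _).1.trans (hb x).1, (ha _).2.trans (hb x).2⟩
  inv_mem' {α} ha x := by
    have := ha (α⁻¹ x)
    rw [MulAut.apply_inv_self] at this
    exact ⟨this.1.symm, this.2.symm⟩

theorem mem_NN {α : MulAut (Sy φ)} : α ∈ NN φ ↔ ∀ x, (α x).x1 = x.x1 ∧ (α x).x6 = x.x6 := Iff.rfl

instance NN_normal : (NN φ).Normal := ⟨fun α hα β x => by
  have h1 := hα (β⁻¹ x)
  rw [MulAut.mul_apply, MulAut.mul_apply]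
  constructor
  · rw [Sy.apply_x1 β, h1.1, ← Sy.apply_x1 β, MulAut.apply_inv_self]
  · rw [Sy.apply_x6 β, h1.2, ← Sy.apply_x6 β, MulAut.apply_inv_self]⟩

theorem NN_pGroup {p : ℕ} [Fact p.Prime] [Finite (Sy φ)] (hp : IsPGroup p (Sy φ)) : IsPGroup p (NN φ) := by
  apply Cfsg.Agent.Schreier.Tools2.isPGroup_of_trivial_mod_frattini hp
  intro α hα x
  apply Cfsg.Agent.Lib.FrattiniPGroup.commutator_le_frattini hp
  rw [Sy.commutator_eq]
  have h := hα x
  refine ⟨?_, ?_⟩
  · rw [mul_x1, inv_x1, h.1]; ring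
  · rw [mul_x6, inv_x6, h.2]; ring

theorem NN_inf_TT {p n : ℕ} (h : HypD φ p n) : NN φ ⊓ TT φ = ⊥ := by
  rw [eq_bot_iff]
  rintro α ⟨h1, h2⟩
  obtain ⟨s, t, τ, ρ, hα⟩ := (mem_TT h).1 h2
  have h1' := mem_NN.1 h1
  have e6 : ∀ u, t * ρ u = u := fun u => by
    have := (h1' (u6 φ u)).2
    rw [hα.x6] at this
    exact this
  have et : t = 1 := by
    have := e6 1
    rwa [map_one, mul_one] at this
  have eρ : ∀ u, ρ u = u := fun u => by
    have := e6 u
    rwa [et, one_mul] at this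
  have e1 : ∀ a, s * τ a = a := fun a => by
    have := (h1' (u1 φ a)).1
    rw [hα.x1] at this
    exact this
  have es : s = 1 := by
    have := e1 1
    rwa [map_one, mul_one] at this
  have eτ : ∀ a, τ a = a := fun a => by
    have := e1 a
    rwa [es, one_mul] at this
  rw [Subgroup.mem_bot]
  apply MulEquiv.ext
  intro g
  rw [MulAut.one_apply]
  ext
  · rw [hα.x1, es, eτ, one_mul]
  · rw [hα.x6, et, eρ, one_mul]
  · rw [hα.x5, es, et, eτ, one_mul, one_smul]
  · rw [hα.x3, es, et, eτ, one_smul]; cub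
  · rw [hα.x2, es, et, eρ, nm_one]; ring
  · rw [hα.x4, es, et, eρ, nm_one]; ring

/-- the conclusion if `D` lies in `NN TT` -/
theorem pos_of_mem {p n : ℕ} (h : HypD φ p n) {D : Subgroup (MulAut (Sy φ))} (hD : (Nat.card D).Coprime p)
    (hall : ∀ d ∈ D, ∃ (l : Kˣ) (m : Fˣ) (g : Gal φ), ∀ x, (d x).x1 = l * g.τ x.x1 ∧ (d x).x6 = m * g.ρ x.x6) :
    ∃ θ : MulAut (Sy φ), ∀ d ∈ D, θ * d * θ⁻¹ ∈ TT φ := by
  have := h.fin
  have := finF h
  have hp : Fact p.Prime := ⟨h.pp⟩
  have : Finite (MulAut (Sy φ)) := finite_mulAut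
  have hpS : IsPGroup p (Sy φ) := (isPGroup h).of_equiv Subgroup.topEquiv
  have hpN := NN_pGroup (φ := φ) hpS
  have hnil := hpN.isNilpotent
  have hs : Group.IsSolvable (NN φ) := inferInstance
  obtain ⟨e, he⟩ := hpN.exists_card_eq
  refine sz_in (NN φ) D (TT φ) hs ?_ (NN_inf_TT h) ?_
  · rw [he]
    exact Nat.Coprime.pow_right e hD
  · intro d hd
    obtain ⟨l, m, g, hlmg⟩ := hall d hd
    refine ⟨stdAut l m g, (mem_TT h).2 ⟨_, _, _, _, isTor_stdAut l m g⟩, fun x => ?_⟩
    have e : stdAut l m g ((stdAut l m g : MulAut (Sy φ))⁻¹ x) = x :=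
      MulAut.apply_inv_self _ (stdAut l m g : MulAut (Sy φ)) x
    rw [MulAut.mul_apply, (hlmg _).1, (hlmg _).2]
    constructor
    · conv_rhs => rw [← e]
      rfl
    · conv_rhs => rw [← e]
      rfl

/-- `q > 2` -/
theorem pos_big {p n : ℕ} (h : HypD φ p n) (hq : 2 < p ^ n) (D : Subgroup (MulAut (Sy φ)))
    (hD : (Nat.card D).Coprime p) : ∃ θ : MulAut (Sy φ), ∀ d ∈ D, θ * d * θ⁻¹ ∈ TT φ := by
  classical
  have := h.fin
  have := finF h
  obtain ⟨v, hv⟩ : ∃ v : F, v ∉ ({0, 1} : Set F) := by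
    by_contra hcon
    push Not at hcon
    have h1 : Nat.card F ≤ 2 := by
      have h2 : (Set.univ : Set F) ⊆ {0, 1} := fun x _ => hcon x
      have h3 := Set.ncard_le_ncard h2 (Set.toFinite _)
      rw [Set.ncard_univ] at h3
      have h4 := Set.ncard_insert_le (0 : F) {1}
      rw [Set.ncard_singleton] at h4
      exact h3.trans h4
    rw [h.card] at h1
    omega
  have hv0 : v ≠ 0 := fun e => hv (Or.inl e)
  have hv1 : v ≠ 1 := fun e => hv (Or.inr e)
  exact pos_of_mem h hD fun d _ => Sy.exists_std d hv0 hv1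

/-! ### `q = 2` -/

section Two

theorem zero_or_one (hF : Nat.card F = 2) (u : F) : u = 0 ∨ u = 1 := by
  classical
  have : Finite F := Nat.finite_of_card_ne_zero (by rw [hF]; norm_num)
  by_contra hcon
  push Not at hcon
  have h1 : ({0, 1, u} : Set F).ncard = 3 := by
    rw [Set.ncard_eq_three]
    exact ⟨0, 1, u, zero_ne_one, fun e => hcon.1 e.symm, fun e => hcon.2 e.symm, rfl⟩
  have h2 := Set.ncard_le_card ({0, 1, u} : Set F)
  omega

/-- action on `S/Q1` as linear maps -/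
noncomputable def lin (hF : Nat.card F = 2) : MulAut (Sy φ) →* (K ≃ₗ[F] K) where
  toFun α := LinearEquiv.ofBijective
    { toFun := al1 α
      map_add' := Sy.al1_add α
      map_smul' := fun u a => by
        rw [Sy.al1_smul, RingHom.id_apply]
        rcases zero_or_one hF u with rfl | rfl
        · rw [Sy.rhoF_zero]
        · rw [Sy.rhoF_one] }
    (Sy.al1_bij α)
  map_one' := by
    ext a
    rfl
  map_mul' α β := by
    ext a
    change al1 (α * β) a = al1 α (al1 β a)
    rw [al1, MulAut.mul_apply, apply_x1]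
    rfl

theorem lin_apply (hF : Nat.card F = 2) (α : MulAut (Sy φ)) (a : K) : lin hF α a = al1 α a := rfl

theorem al6_id (hF : Nat.card F = 2) (α : MulAut (Sy φ)) (u : F) : al6 α u = u := by
  rcases zero_or_one hF u with rfl | rfl
  · exact Sy.al6_zero α
  · exact (zero_or_one hF _).resolve_left (Sy.al6_one_ne α)

theorem ker_lin (hF : Nat.card F = 2) : (lin (φ := φ) hF).ker = NN φ := by
  ext α
  rw [MonoidHom.mem_ker, mem_NN]
  constructor
  · intro h x
    refine ⟨?_, ?_⟩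
    · rw [apply_x1, ← lin_apply hF, h]; rfl
    · rw [apply_x6, al6_id hF]
  · intro h
    ext a
    exact (h (u1 φ a)).1

omit φ in
theorem card_lin [Finite K] (h3 : Module.finrank F K = 3) (hF : Nat.card F = 2) : Nat.card (K ≃ₗ[F] K) = 168 := by
  have hfin : Finite F := Nat.finite_of_card_ne_zero (by rw [hF]; norm_num)
  have := Fintype.ofFinite F
  have hm : Module.Finite F K := Module.Finite.of_finite
  let b := Module.finBasisOfFinrankEq F K h3
  have e1 : (K ≃ₗ[F] K) ≃ LinearMap.GeneralLinearGroup F (Fin 3 → F) :=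
    ((LinearMap.GeneralLinearGroup.generalLinearEquiv F K).symm.trans
      (LinearMap.GeneralLinearGroup.congrLinearEquiv b.equivFun)).toEquiv
  have e2 : GL (Fin 3) F ≃ LinearMap.GeneralLinearGroup F (Fin 3 → F) :=
    (Matrix.GeneralLinearGroup.toLin).toEquiv
  rw [Nat.card_congr e1, ← Nat.card_congr e2, Matrix.card_GL_field]
  rw [← Nat.card_eq_fintype_card, hF]
  decide

/-- Sylow conjugacy for a prime `r` with `r² ∤ |A|` -/
theorem sylow_conj {A : Type*} [Group A] [Finite A] {r : ℕ} [hr : Fact r.Prime] (h : ¬ r ^ 2 ∣ Nat.card A)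
    {P D : Subgroup A} (hP : Nat.card P = r) (hD : IsPGroup r D) : ∃ g : A, ∀ d ∈ D, g * d * g⁻¹ ∈ P := by
  obtain ⟨S1, h1⟩ := hD.exists_le_sylow
  obtain ⟨S2, h2⟩ := (IsPGroup.of_card (n := 1) (by rw [hP, pow_one]) : IsPGroup r P).exists_le_sylow
  have h3 : (S2 : Subgroup A) ≤ P := by
    obtain ⟨k, hk⟩ := S2.isPGroup'.exists_card_eq
    have h4 : Nat.card (S2 : Subgroup A) ∣ Nat.card A := Subgroup.card_subgroup_dvd_card _
    have hk1 : k ≤ 1 := by
      by_contra hcon
      apply h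
      refine dvd_trans ?_ h4
      rw [hk]
      exact pow_dvd_pow r (by omega)
    have h5 : Nat.card (S2 : Subgroup A) ≤ Nat.card P := by
      rw [hk, hP]
      calc r ^ k ≤ r ^ 1 := Nat.pow_le_pow_right hr.out.pos hk1
        _ = r := pow_one r
    exact (Subgroup.eq_of_le_of_card_ge h2 h5).ge
  obtain ⟨g, hg⟩ := MulAction.exists_smul_eq A S1 S2
  refine ⟨g, fun d hd => h3 ?_⟩
  rw [← hg]
  exact Subgroup.smul_mem_pointwise_smul d (MulAut.conj g) _ (h1 hd)

theorem card_dvd [Finite K] (hF : Nat.card F = 2) :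
    ∃ r, Nat.card (MulAut (Sy φ)) = Nat.card (NN φ) * r ∧ r ∣ 168 := by
  refine ⟨(NN φ).index, ((NN φ).card_mul_index).symm, ?_⟩
  rw [← ker_lin hF, Subgroup.index_ker, ← card_lin (finrank_K φ) hF]
  exact Subgroup.card_subgroup_dvd_card _

/-- the torus `Kˣ` -/
noncomputable def tK (φ : K ≃ₐ[F] K) [Cub φ] : Kˣ →* MulAut (Sy φ) := (tor φ).comp (MonoidHom.inl Kˣ Fˣ)

theorem tK_x1 (l : Kˣ) (x : Sy φ) : (tK φ l x).x1 = l * x.x1 := rfl

theorem tK_inj : Function.Injective (tK φ) := by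
  intro l l' h
  have h1 := congrArg (fun α : MulAut (Sy φ) => (α (u1 φ 1)).x1) h
  simp only [tK_x1] at h1
  apply Units.ext
  have e : (u1 φ (1 : K)).x1 = 1 := rfl
  rw [e, mul_one, mul_one] at h1
  exact h1

theorem card_tK [Finite K] (hK : Nat.card K = 8) : Nat.card (tK φ).range = 7 := by
  rw [← Nat.card_congr (MonoidHom.ofInjective (tK_inj (φ := φ))).toEquiv]
  have := Fintype.ofFinite K
  classical
  rw [Nat.card_eq_fintype_card, Fintype.card_units, ← Nat.card_eq_fintype_card, hK]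

/-- elements normalizing the torus are semilinear -/
theorem semi_of_norm {p n : ℕ} (h : HypD φ p n) (hF : Nat.card F = 2) {d : MulAut (Sy φ)}
    (hd : ∀ t ∈ (tK φ).range, d * t * d⁻¹ ∈ (tK φ).range) :
    ∃ (l : Kˣ) (m : Fˣ) (g : Gal φ), ∀ x, (d x).x1 = l * g.τ x.x1 ∧ (d x).x6 = m * g.ρ x.x6 := by
  have := h.fin
  have key : ∀ l : Kˣ, ∃ l' : Kˣ, ∀ a, al1 d (l * a) = l' * al1 d a := by
    intro l
    obtain ⟨l', hl'⟩ := hd (tK φ l) ⟨l, rfl⟩
    refine ⟨l', fun a => ?_⟩
    have h1 : tK φ l' * d = d * tK φ l := by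
      rw [hl']; group
    have h2 := congrArg (fun α : MulAut (Sy φ) => (α (u1 φ a)).x1) h1
    simp only [MulAut.mul_apply] at h2
    rw [tK_x1, apply_x1 d, apply_x1 d, tK_x1] at h2
    exact h2.symm
  have f0 := Sy.al1_zero d
  have f1 := Sy.al1_one_ne d
  have hmul : ∀ s t : K, al1 d (s * t) * al1 d 1 = al1 d s * al1 d t := by
    intro s t
    by_cases hs : s = 0
    · rw [hs, zero_mul, f0, zero_mul, zero_mul]
    · obtain ⟨l', hl'⟩ := key (Units.mk0 s hs)
      have e1 := hl' 1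
      have e2 := hl' t
      rw [Units.val_mk0] at e1 e2
      rw [mul_one] at e1
      rw [e1, e2]
      ring
  let ψ : K →+* K :=
    { toFun := fun t => al1 d t * (al1 d 1)⁻¹
      map_one' := mul_inv_cancel₀ f1
      map_mul' := by
        intro s t
        field_simp
        linear_combination hmul s t
      map_zero' := by rw [f0, zero_mul]
      map_add' := by
        intro s t
        rw [Sy.al1_add, add_mul] }
  have hbij : Function.Bijective ψ := Finite.injective_iff_bijective.1 ψ.injective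
  let τ : K ≃+* K := RingEquiv.ofBijective ψ hbij
  have hτ : ∀ t, τ t = al1 d t * (al1 d 1)⁻¹ := fun t => rfl
  refine ⟨Units.mk0 _ f1, 1, galOf h τ (RingEquiv.refl F) (fun x => ?_), fun x => ⟨?_, ?_⟩⟩
  · rcases zero_or_one hF x with rfl | rfl
    · rw [map_zero, map_zero, map_zero, map_zero]
    · rw [map_one, map_one, map_one, map_one]
  · change _ = al1 d 1 * τ x.x1
    rw [apply_x1, hτ]
    field_simp
  · change _ = (1 : F) * x.x6
    rw [apply_x6, al6_id hF, one_mul]

theorem pos_two {p n : ℕ} (h : HypD φ p n) (hq : p ^ n = 2) (D : Subgroup (MulAut (Sy φ)))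
    (hD : (Nat.card D).Coprime p) : ∃ θ : MulAut (Sy φ), ∀ d ∈ D, θ * d * θ⁻¹ ∈ TT φ := by
  have := h.fin
  have := finF h
  have hF : Nat.card F = 2 := by rw [h.card, hq]
  have hK : Nat.card K = 8 := by rw [h.cardK, hq]; norm_num
  have hp2 : p = 2 := by
    have h1 : p ∣ 2 := hq ▸ dvd_pow_self p (by have := h.hn; omega)
    exact (Nat.prime_dvd_prime_iff_eq h.pp Nat.prime_two).1 h1
  subst hp2
  have hfin : Finite (MulAut (Sy φ)) := finite_mulAut
  have hpS : IsPGroup 2 (Sy φ) := (isPGroup h).of_equiv Subgroup.topEquiv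
  obtain ⟨e, he⟩ := (NN_pGroup (φ := φ) hpS).exists_card_eq
  obtain ⟨r, hr, hr2⟩ := card_dvd (φ := φ) hF
  rw [he] at hr
  have hr0 : r ≠ 0 := by rintro rfl; norm_num at hr2
  have hcopr : ∀ m, Nat.Coprime m 2 → m ∣ Nat.card (MulAut (Sy φ)) → m ∣ 21 := fun m hm hd => by
    rw [hr] at hd
    have h1 : m ∣ r := (Nat.Coprime.pow_right e hm).dvd_of_dvd_mul_left hd
    have h2 : m ∣ 2 ^ 3 * 21 := h1.trans hr2
    exact (Nat.Coprime.pow_right 3 hm).dvd_of_dvd_mul_left h2
  have hDdvd : Nat.card D ∣ 21 := hcopr _ hD (Subgroup.card_subgroup_dvd_card D)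
  have n9 : ¬ 3 ^ 2 ∣ Nat.card (MulAut (Sy φ)) := fun hh => by
    have := hcopr (3 ^ 2) (by norm_num) hh
    norm_num at this
  have n49 : ¬ 7 ^ 2 ∣ Nat.card (MulAut (Sy φ)) := fun hh => by
    have := hcopr (7 ^ 2) (by norm_num) hh
    norm_num at this
  have f3 : Fact (Nat.Prime 3) := ⟨Nat.prime_three⟩
  have f7 : Fact (Nat.Prime 7) := ⟨by norm_num⟩
  by_cases h7 : 7 ∣ Nat.card D
  · -- a normal Sylow `7`-subgroup
    obtain ⟨k, hk⟩ := h7
    have hk3 : k ∣ 3 := by
      have h1 : 7 * k ∣ 7 * 3 := by rw [← hk]; exact hDdvd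
      exact Nat.dvd_of_mul_dvd_mul_left (by norm_num) h1
    have hk' : k = 1 ∨ k = 3 := (Nat.dvd_prime Nat.prime_three).1 hk3
    let P : Sylow 7 D := default
    have hPc : Nat.card P = 7 := by
      obtain ⟨j, hj⟩ := P.isPGroup'.exists_card_eq
      have h1 : Nat.card P ∣ Nat.card D := Subgroup.card_subgroup_dvd_card _
      have h2 : Nat.card P * (P : Subgroup D).index = Nat.card D := Subgroup.card_mul_index _
      have h3 : ¬ 7 ∣ (P : Subgroup D).index := P.not_dvd_index
      have h4 : 7 ∣ Nat.card P := by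
        have : 7 ∣ Nat.card P * (P : Subgroup D).index := by rw [h2, hk]; exact Dvd.intro _ rfl
        exact (Nat.Prime.dvd_mul (by norm_num)).1 this |>.resolve_right h3
      have hj1 : j ≤ 1 := by
        by_contra hcon
        have h5 : 7 ^ 2 ∣ Nat.card D := by
          refine dvd_trans ?_ h1
          rw [hj]
          exact pow_dvd_pow 7 (by omega)
        have h6 := h5.trans hDdvd
        norm_num at h6
      have hj2 : j ≠ 0 := by
        rintro rfl
        rw [hj] at h4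
        norm_num at h4
      have : j = 1 := by omega
      rw [hj, this, pow_one]
    have hPn : (P : Subgroup D).Normal := by
      have h1 : Nat.card (Sylow 7 D) ∣ (P : Subgroup D).index := Sylow.card_dvd_index P
      have h2 : Nat.card P * (P : Subgroup D).index = Nat.card D := Subgroup.card_mul_index _
      have h3 : (P : Subgroup D).index = k := by
        rw [hPc, hk] at h2
        exact Nat.eq_of_mul_eq_mul_left (by norm_num) h2
      have h4 : Nat.card (Sylow 7 D) ≡ 1 [MOD 7] := card_sylow_modEq_one 7 D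
      have h5 : Nat.card (Sylow 7 D) = 1 := by
        rw [h3] at h1
        have h6 : Nat.card (Sylow 7 D) ∣ 3 := h1.trans hk3
        rcases (Nat.dvd_prime Nat.prime_three).1 h6 with h7 | h7
        · exact h7
        · rw [h7] at h4
          exact absurd h4 (by decide)
      have h6 : Subsingleton (Sylow 7 D) := (Nat.card_eq_one_iff_unique.1 h5).1
      exact Sylow.normal_of_subsingleton P
    have hP' : IsPGroup 7 ((P : Subgroup D).map D.subtype) := P.isPGroup'.map _
    have hP'c : Nat.card ((P : Subgroup D).map D.subtype) = 7 := by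
      refine Eq.trans ?_ hPc
      exact (Nat.card_congr ((P : Subgroup D).equivMapOfInjective D.subtype D.subtype_injective).toEquiv).symm
    obtain ⟨g, hg⟩ := sylow_conj n49 (card_tK (φ := φ) hK) hP'
    -- `g P' g⁻¹` is the torus
    have hgP : ∀ t ∈ (tK φ).range, g⁻¹ * t * g ∈ (P : Subgroup D).map D.subtype := by
      have h1 : ((P : Subgroup D).map D.subtype).map (MulAut.conj g).toMonoidHom ≤ (tK φ).range := by
        rintro _ ⟨x, hx, rfl⟩
        exact hg x hx
      have h2 : ((P : Subgroup D).map D.subtype).map (MulAut.conj g).toMonoidHom = (tK φ).range := by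
        apply Subgroup.eq_of_le_of_card_ge h1
        rw [card_tK hK]
        refine le_trans (le_of_eq hP'c.symm) ?_
        exact (Nat.card_congr (((P : Subgroup D).map D.subtype).equivMapOfInjective
          (MulAut.conj g).toMonoidHom (MulAut.conj g).injective).toEquiv).le
      intro t ht
      rw [← h2] at ht
      obtain ⟨x, hx, rfl⟩ := ht
      have : g⁻¹ * (MulAut.conj g).toMonoidHom x * g = x := by
        change g⁻¹ * (g * x * g⁻¹) * g = x
        group
      rw [this]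
      exact hx
    let D' : Subgroup (MulAut (Sy φ)) := D.map (MulAut.conj g).toMonoidHom
    have hD'c : Nat.card D' = Nat.card D :=
      (Nat.card_congr (D.equivMapOfInjective (MulAut.conj g).toMonoidHom (MulAut.conj g).injective).toEquiv).symm
    obtain ⟨θ, hθ⟩ := pos_of_mem h (D := D') (by rw [hD'c]; exact hD) (fun d' hd' => by
      obtain ⟨d, hd, rfl⟩ := hd'
      apply semi_of_norm h hF
      intro t ht
      obtain ⟨x, hx, hxt⟩ := hgP t ht
      have h1 : D.subtype ((⟨d, hd⟩ : D) * x * (⟨d, hd⟩ : D)⁻¹) ∈ (P : Subgroup D).map D.subtype :=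
        ⟨_, hPn.conj_mem x hx _, rfl⟩
      have h2 := hg _ h1
      have h3 : g * D.subtype ((⟨d, hd⟩ : D) * x * (⟨d, hd⟩ : D)⁻¹) * g⁻¹ =
          (MulAut.conj g).toMonoidHom d * t * ((MulAut.conj g).toMonoidHom d)⁻¹ := by
        rw [map_mul, map_mul, map_inv, hxt]
        change g * (d * (g⁻¹ * t * g) * d⁻¹) * g⁻¹ = (g * d * g⁻¹) * t * (g * d * g⁻¹)⁻¹
        group
      rw [← h3]
      exact h2)
    refine ⟨θ * g, fun d hd => ?_⟩
    have h1 := hθ ((MulAut.conj g).toMonoidHom d) ⟨d, hd, rfl⟩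
    have h2 : θ * g * d * (θ * g)⁻¹ = θ * (MulAut.conj g).toMonoidHom d * θ⁻¹ := by
      change θ * g * d * (θ * g)⁻¹ = θ * (g * d * g⁻¹) * θ⁻¹
      group
    rw [h2]
    exact h1
  · have hD3 : Nat.card D ∣ 3 := by
      have h1 : Nat.card D ∣ 7 * 3 := hDdvd
      exact ((Nat.Prime.coprime_iff_not_dvd (by norm_num)).2 h7).symm.dvd_of_dvd_mul_left h1
    have hDp : IsPGroup 3 D := by
      rcases (Nat.dvd_prime Nat.prime_three).1 hD3 with h1 | h1
      · exact IsPGroup.of_card (n := 0) (by rw [h1, pow_zero])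
      · exact IsPGroup.of_card (n := 1) (by rw [h1, pow_one])
    let σ : MulAut (Sy φ) := galAut (Gal.ofPhi φ)
    have hσ3 : σ ^ 3 = 1 := by
      apply MulEquiv.ext
      intro x
      change stdFun 1 1 (Gal.ofPhi φ) (stdFun 1 1 (Gal.ofPhi φ) (stdFun 1 1 (Gal.ofPhi φ) x)) = x
      rw [stdFun_comp, stdFun_comp]
      simp only [map_one, mul_one]
      exact stdFun_one _ (fun t => phi3 φ t) (fun t => rfl) x
    have hσ1 : σ ≠ 1 := by
      intro e1
      obtain ⟨t, ht⟩ := Cub.ne (φ := φ)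
      apply ht
      have h2 := congrArg (fun α : MulAut (Sy φ) => (α (u1 φ t)).x1) e1
      change (1 : K) * φ t = t at h2
      rwa [one_mul] at h2
    have hσo : orderOf σ = 3 := orderOf_eq_prime hσ3 hσ1
    obtain ⟨g, hg⟩ := sylow_conj n9 (P := Subgroup.zpowers σ) (by rw [Nat.card_zpowers, hσo]) hDp
    refine ⟨g, fun d hd => ?_⟩
    have h1 : Subgroup.zpowers σ ≤ TT φ := by
      rw [Subgroup.zpowers_le]
      exact (mem_TT h).2 ⟨_, _, _, _, isTor_stdAut 1 1 (Gal.ofPhi φ)⟩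
    exact h1 (hg d hd)

end Two

end

/-- **(POSD)** -/
theorem stPosD : StPosD.{u} := by
  intro F K _ _ _ φ _ p n h D hD
  have h1 : 2 ≤ p ^ n := by
    calc 2 ≤ p := h.pp.two_le
      _ = p ^ 1 := (pow_one p).symm
      _ ≤ p ^ n := Nat.pow_le_pow_right h.pp.pos h.hn
  rcases h1.lt_or_eq with h2 | h2
  · exact pos_big h h2 D hD
  · exact pos_two h h2.symm D hD

end Cfsg.Agent.H765.D4
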